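import Groth.Agent.Lib.OX.PullbackStalk
import Groth.Agent.Lib.OX.Exact
import Groth.Agent.Lib.IdealModSec.Basic

/-!
The stalks of an ideal module inside the local rings.
-/

set_option autoImplicit false
set_option linter.all false
universe u

open CategoryTheory CategoryTheory.Limits AlgebraicGeometry Opposite TopologicalSpace

namespace GrothLib.OmegaBC

variable {X : Scheme.{u}}

/-- The image of one in the stalk of the structure module. -/
noncomputable def one₀ (x : X) : (OX.stalk x).obj (Coh.structureModule X) :=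
  OX.germ (x := x) (DCoh.toP.obj (Coh.structureModule X)) ⊤ trivial (1 : Γ(X, ⊤))

theorem smul_one₀ (x : X) (W : X.Opens) (hx : x ∈ W) (s : Γ(X, W)) :
    X.presheaf.germ W x hx s • one₀ x = OX.germ (x := x) (DCoh.toP.obj (Coh.structureModule X)) W hx s := by
  let P := DCoh.toP.obj (Coh.structureModule X)
  have h1 : one₀ x = OX.germ (x := x) P W hx (P.map (homOfLE le_top).op (1 : Γ(X, ⊤))) :=
    (OX.germ_map P (homOfLE le_top) hx _).symm
  rw [h1]
  refine (OX.germ_smul' P W hx s _).symm.trans (congrArg (OX.germ P W hx) ?_)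
  show s * X.presheaf.map (homOfLE le_top).op (1 : Γ(X, ⊤)) = s
  exact (congrArg (s * ·) (map_one _)).trans (mul_one s)

theorem smul_one₀_bijective (x : X) :
    Function.Bijective fun c : X.presheaf.stalk x => c • one₀ x := by
  refine ⟨fun c d h => ?_, fun v => ?_⟩
  · obtain ⟨W, hx, s, rfl⟩ := X.presheaf.exists_germ_eq c
    obtain ⟨W', hx', s', rfl⟩ := X.presheaf.exists_germ_eq d
    simp only [smul_one₀] at h
    obtain ⟨V, hxV, i, i', hVV⟩ :=
      TopCat.Presheaf.germ_eq (OX.prs (DCoh.toP.obj (Coh.structureModule X))) x hx hx' s s' h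
    have hVV' : X.presheaf.map i.op s = X.presheaf.map i'.op s' := hVV
    rw [← TopCat.Presheaf.germ_res_apply X.presheaf i x hxV, hVV', TopCat.Presheaf.germ_res_apply]
  · obtain ⟨W, hx, s, rfl⟩ := OX.germ_exists (x := x) _ v
    exact ⟨X.presheaf.germ W x hx s, smul_one₀ x W hx s⟩

/-- The stalk of the structure module is the local ring. -/
noncomputable def ouni (x : X) : X.presheaf.stalk x ≃ₗ[X.presheaf.stalk x] (OX.stalk x).obj (Coh.structureModule X) :=
  LinearEquiv.ofBijective (LinearMap.toSpanSingleton (X.presheaf.stalk x) _ (one₀ x)) (smul_one₀_bijective x)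

theorem ouni_germ (x : X) (W : X.Opens) (hx : x ∈ W) (s : Γ(X, W)) :
    ouni x (X.presheaf.germ W x hx s) = OX.germ (x := x) (DCoh.toP.obj (Coh.structureModule X)) W hx s :=
  smul_one₀ x W hx s

/-- The value in the local ring of an element of the stalk of the ideal module. -/
noncomputable def sval (I : X.IdealSheafData) (x : X) :
    (OX.stalk x).obj (ClSub.idealMod I) →ₗ[X.presheaf.stalk x] X.presheaf.stalk x :=
  (ouni x).symm.toLinearMap ∘ₗ ((OX.stalk x).map (ClSub.idealModι I)).hom

theorem sval_germ (I : X.IdealSheafData) (x : X) (W : X.Opens) (hx : x ∈ W) (m : Γ(ClSub.idealMod I, W)) :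
    sval I x (OX.germ (x := x) (DCoh.toP.obj (ClSub.idealMod I)) W hx m) =
      X.presheaf.germ W x hx (IdealModSec.val I W m) := by
  refine (LinearEquiv.symm_apply_eq _).2 ?_
  rw [ouni_germ]
  exact OX.stalkPre_map_germ (DCoh.toP.map (ClSub.idealModι I)) W hx m

theorem sval_injective (I : X.IdealSheafData) (x : X) : Function.Injective (sval I x) := by
  haveI : Mono (ClSub.idealModι I) := by show Mono (kernel.ι _); exact equalizer.ι_mono
  haveI := (OX.mono_iff (ClSub.idealModι I)).1 inferInstance x
  exact (ouni x).symm.injective.comp ((ModuleCat.mono_iff_injective _).1 inferInstance)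

/-- The stalk of the ideal module is the extension of the ideal. -/
theorem range_sval (I : X.IdealSheafData) (x : X) (U : X.affineOpens) (hx : x ∈ U.1) :
    LinearMap.range (sval I x) = (I.ideal U).map (X.presheaf.germ U.1 x hx).hom := by
  refine le_antisymm ?_ (Ideal.map_le_iff_le_comap.2 fun a ha => ?_)
  · rintro _ ⟨v, rfl⟩
    obtain ⟨W, hxW, m, rfl⟩ := OX.germ_exists (x := x) _ v
    obtain ⟨h, hle, hxh⟩ := U.2.exists_basicOpen_le (⟨x, hxW⟩ : W) hx
    erw [sval_germ]
    have hk := IdealModSec.val_mem I ⟨X.basicOpen h, U.2.basicOpen h⟩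
      (InvExt.mres (ClSub.idealMod I) hle m)
    have hk' : InvExt.fres X hle (IdealModSec.val I W m) ∈
        (I.ideal U).map (X.presheaf.map (homOfLE (X.basicOpen_le h)).op).hom := by
      rw [← IdealModSec.val_mres I hle m]
      exact (I.map_ideal_basicOpen U h).symm ▸ hk
    have h2 := Ideal.mem_map_of_mem (X.presheaf.germ (X.basicOpen h) x hxh).hom hk'
    rw [Ideal.map_map, ← CommRingCat.hom_comp, TopCat.Presheaf.germ_res] at h2
    erw [TopCat.Presheaf.germ_res_apply] at h2
    exact h2
  · obtain ⟨m, rfl⟩ := IdealModSec.exists_val_eq I U ha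
    exact ⟨_, sval_germ I x U.1 hx m⟩

end GrothLib.OmegaBC
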