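import Mathlib.LinearAlgebra.TensorProduct.Tower
import Mathlib.Algebra.TrivSqZeroExt.Basic
import Mathlib.RingTheory.Ideal.Maps

/-!
Base change of the conormal module of a retracted immersion at a point: the algebra.
-/

set_option autoImplicit false
set_option linter.all false
universe u

open TensorProduct

noncomputable section

namespace GrothLib.OmegaBC

variable {Oz O O' a : Type u} [CommRing Oz] [CommRing O] [CommRing O'] [CommRing a]
  (ρ : Oz →+* O) (ζ : O →+* Oz) (γ : Oz →+* a) (φ : O →+* O') (π : O' →+* a)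

/-- The algebra of base change of a conormal module along a retraction. -/
theorem bijective_baseChange (hρζ : ∀ c, ζ (ρ c) = c) (hπφ : ∀ b, π (φ b) = γ (ζ b))
    {N N' : Type u} [AddCommGroup N] [Module O N] [AddCommGroup N'] [Module O' N']
    (j : N →ₗ[O] O) (hj : Function.Injective j) (hjr : LinearMap.range j = RingHom.ker ζ)
    (j' : N' →ₗ[O'] O') (hj' : Function.Injective j')
    (hj'r : LinearMap.range j' = Ideal.map φ (LinearMap.range j))
    (v : O') (hv : IsUnit v)
    (hlift : ∀ (Q : Type u) [AddCommGroup Q] [Module a Q] [Module aᵐᵒᵖ Q] [IsCentralScalar a Q]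
      (f : O →+* TrivSqZeroExt a Q), (∀ b, (f b).fst = γ (ζ b)) → (∀ c, f (ρ c) = TrivSqZeroExt.inl (γ c)) →
        ∃ F : O' →+* TrivSqZeroExt a Q, (∀ b, F (φ b) = f b) ∧ ∀ b, (F b).fst = π b) :
    letI := φ.toAlgebra
    letI := π.toAlgebra
    ∀ (T : O' ⊗[O] N →ₗ[O'] N'), (∀ n, j' (T (1 ⊗ₜ n)) = v * φ (j n)) →
      Function.Bijective (LinearMap.baseChange a T) := by
  letI := φ.toAlgebra
  letI := π.toAlgebra
  intro T hT
  obtain ⟨v, rfl⟩ := hv
  have hTs : Function.Surjective T := by
    intro n'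
    have hmem : (↑v⁻¹ : O') * j' n' ∈ Ideal.map φ (LinearMap.range j) := by
      refine Ideal.mul_mem_left _ _ ?_
      rw [← hj'r]
      exact ⟨n', rfl⟩
    suffices h : ∀ y ∈ Ideal.map φ (LinearMap.range j), ∃ t, j' (T t) = v * y by
      obtain ⟨t, ht⟩ := h _ hmem
      exact ⟨t, hj' (ht.trans (by rw [← mul_assoc, Units.mul_inv, one_mul]))⟩
    intro y hy
    refine Submodule.span_induction ?_ ⟨0, by simp⟩ ?_ ?_ hy
    · rintro _ ⟨b, ⟨n, rfl⟩, rfl⟩
      exact ⟨1 ⊗ₜ n, hT n⟩
    · rintro y z - - ⟨t, ht⟩ ⟨t', ht'⟩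
      exact ⟨t + t', by rw [map_add, map_add, ht, ht', mul_add]⟩
    · rintro r y - ⟨t, ht⟩
      exact ⟨r • t, by rw [map_smul, map_smul, ht, smul_eq_mul, smul_eq_mul]; ring⟩
  have hbs : Function.Surjective (LinearMap.baseChange a T) := by
    intro x
    induction x using TensorProduct.induction_on with
    | zero => exact ⟨0, map_zero _⟩
    | add x y hx hy =>
      obtain ⟨s, rfl⟩ := hx
      obtain ⟨t, rfl⟩ := hy
      exact ⟨s + t, map_add _ _ _⟩
    | tmul c n' =>
      obtain ⟨t, rfl⟩ := hTs n'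
      exact ⟨c ⊗ₜ t, LinearMap.baseChange_tmul _ _ _⟩
  refine ⟨?_, hbs⟩
  let Q := a ⊗[O'] (O' ⊗[O] N)
  haveI : IsCentralScalar a Q := ⟨fun c q => by
    induction q using TensorProduct.induction_on with
    | zero => rw [smul_zero, smul_zero]
    | add x y hx hy => rw [smul_add, smul_add, hx, hy]
    | tmul x t => rw [TensorProduct.smul_tmul', TensorProduct.smul_tmul', op_smul_eq_smul]⟩
  let η : N → Q := fun n => 1 ⊗ₜ (1 ⊗ₜ n)
  have hη_add : ∀ m n, η (m + n) = η m + η n := fun m n => by simp [η, TensorProduct.tmul_add]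
  have hη_smul : ∀ (b : O) n, η (b • n) = γ (ζ b) • η n := fun b n => by
    show (1 : a) ⊗ₜ[O'] ((1 : O') ⊗ₜ[O] (b • n)) = γ (ζ b) • ((1 : a) ⊗ₜ[O'] ((1 : O') ⊗ₜ[O] n))
    rw [TensorProduct.tmul_smul, ← IsScalarTower.algebraMap_smul O' b ((1 : O') ⊗ₜ[O] n), TensorProduct.tmul_smul,
      ← IsScalarTower.algebraMap_smul a (algebraMap O O' b)]
    congr 1
    exact hπφ b
  -- the derivation
  have hd : ∀ b, ∃ n, j n = b - ρ (ζ b) := fun b => by
    have : b - ρ (ζ b) ∈ LinearMap.range j := by
      rw [hjr, RingHom.mem_ker, map_sub, hρζ, sub_self]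
    exact this
  choose d hd using hd
  have hjη : ∀ m n, j m = j n → η m = η n := fun m n h => by rw [hj h]
  have hker : ∀ n, ζ (j n) = 0 := fun n => RingHom.mem_ker.1 (hjr ▸ (⟨n, rfl⟩ : j n ∈ LinearMap.range j))
  let f : O →+* TrivSqZeroExt a Q :=
    { toFun := fun b => TrivSqZeroExt.inl (γ (ζ b)) + TrivSqZeroExt.inr (η (d b))
      map_one' := by
        refine TrivSqZeroExt.ext (by simp) ?_
        have h0 : d 1 = 0 := hj (by rw [hd, map_one, map_one, sub_self, map_zero])
        simp [h0, η]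
      map_zero' := by
        refine TrivSqZeroExt.ext (by simp) ?_
        have h0 : d 0 = 0 := hj (by rw [hd, map_zero, map_zero, sub_self, map_zero])
        simp [h0, η]
      map_add' := fun b c => by
        refine TrivSqZeroExt.ext (by simp) ?_
        have h0 : d (b + c) = d b + d c := hj (by rw [map_add, hd, hd, hd, map_add, map_add]; ring)
        simp [h0, hη_add]
        abel
      map_mul' := fun b c => by
        refine TrivSqZeroExt.ext (by simp) ?_
        have h0 : d (b * c) = ρ (ζ b) • d c + ρ (ζ c) • d b + (b - ρ (ζ b)) • d c := hj (by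
          simp only [map_add, map_smul, hd, smul_eq_mul, map_mul]; ring)
        simp [h0, hη_add, hη_smul, hρζ] }
  have hf2 : ∀ c, f (ρ c) = TrivSqZeroExt.inl (γ c) := fun c => by
    have h0 : d (ρ c) = 0 := hj (by rw [hd, hρζ, sub_self, map_zero])
    show TrivSqZeroExt.inl (γ (ζ (ρ c))) + TrivSqZeroExt.inr (η (d (ρ c))) = _
    rw [hρζ, h0]
    simp [η]
  obtain ⟨F, hF, hFfst⟩ := hlift Q f (fun b => by simp [f]) hf2
  have hπj' : ∀ n', π (j' n') = 0 := fun n' => by
    have : j' n' ∈ RingHom.ker π := by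
      have h : Ideal.map φ (LinearMap.range j) ≤ RingHom.ker π := by
        rw [Ideal.map_le_iff_le_comap]
        rintro _ ⟨n, rfl⟩
        show π (φ (j n)) = 0
        rw [hπφ, hker, map_zero]
      exact h (hj'r ▸ (⟨n', rfl⟩ : j' n' ∈ LinearMap.range j'))
    exact this
  let Ψ : N' →ₗ[O'] Q :=
    { toFun := fun n' => π (↑v⁻¹) • (F (j' n')).snd
      map_add' := fun m n => by simp [smul_add]
      map_smul' := fun r n => by
        rw [map_smul, smul_eq_mul, map_mul, TrivSqZeroExt.snd_mul, hFfst, hFfst, hπj', MulOpposite.op_zero, zero_smul,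
          add_zero, smul_comm, RingHom.id_apply]
        exact IsScalarTower.algebraMap_smul a r (_ : Q) }
  let Ψa : a ⊗[O'] N' →ₗ[O'] Q :=
    TensorProduct.lift
      { toFun := fun c =>
          { toFun := fun n' => c • Ψ n'
            map_add' := fun m n => by rw [map_add, smul_add]
            map_smul' := fun r n => by rw [map_smul, RingHom.id_apply, smul_comm] }
        map_add' := fun c e => LinearMap.ext fun n => add_smul c e (Ψ n)
        map_smul' := fun r c => LinearMap.ext fun n => smul_assoc r c (Ψ n) }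
  have hΨT : ∀ t, Ψ (T t) = 1 ⊗ₜ t := by
    intro t
    induction t using TensorProduct.induction_on with
    | zero => simp
    | add s t hs ht => rw [map_add, map_add, hs, ht, TensorProduct.tmul_add]
    | tmul r n =>
      rw [show r ⊗ₜ[O] n = r • ((1 : O') ⊗ₜ[O] n) by rw [TensorProduct.smul_tmul', smul_eq_mul, mul_one],
        map_smul, map_smul, TensorProduct.tmul_smul]
      congr 1
      show π (↑v⁻¹) • (F (j' (T (1 ⊗ₜ n)))).snd = η n
      rw [hT, map_mul, TrivSqZeroExt.snd_mul, hF, hFfst]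
      have h0 : d (j n) = n := hj (by rw [hd, hker, map_zero, sub_zero])
      have h1 : (f (j n)).fst = 0 := by simp [f, hker]
      have h2 : (f (j n)).snd = η n := by simp [f, h0]
      rw [h1, h2, MulOpposite.op_zero, zero_smul, add_zero, smul_smul, ← map_mul, Units.inv_mul, map_one, one_smul]
  intro x y hxy
  have key : ∀ x, Ψa (LinearMap.baseChange a T x) = x := fun x => by
    induction x using TensorProduct.induction_on with
    | zero => simp
    | add x y hx hy => simp only [map_add, hx, hy]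
    | tmul c t =>
      rw [LinearMap.baseChange_tmul]
      show c • Ψ (T t) = c ⊗ₜ t
      rw [hΨT, TensorProduct.smul_tmul', smul_eq_mul, mul_one]
  rw [← key x, ← key y, hxy]

end GrothLib.OmegaBC
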