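import Groth.Agent.Lib.OmegaBC.Points
import Groth.Agent.Lib.OmegaBC.Core
import Groth.Agent.Lib.ParaLocal.Fwd
import Groth.Prelude.Def_Omega2
import Mathlib.Algebra.Category.ModuleCat.ChangeOfRings
import Mathlib.Algebra.TrivSqZeroExt.Basic

/-!
The conormal sheaf of a section commutes with every base change.
-/

set_option autoImplicit false
set_option linter.all false
universe u

open CategoryTheory CategoryTheory.Limits AlgebraicGeometry Opposite TopologicalSpace IsLocalRing TensorProduct

noncomputable section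

namespace GrothLib.OmegaBC

theorem isLocalRing_trivSqZeroExt (a Q : Type u) [CommRing a] [IsLocalRing a] [AddCommGroup Q] [Module a Q]
    [Module aᵐᵒᵖ Q] [IsCentralScalar a Q] : IsLocalRing (TrivSqZeroExt a Q) :=
  IsLocalRing.of_isUnit_or_isUnit_one_sub_self fun e => by
    rw [TrivSqZeroExt.isUnit_iff_isUnit_fst, TrivSqZeroExt.isUnit_iff_isUnit_fst, TrivSqZeroExt.fst_sub,
      TrivSqZeroExt.fst_one]
    exact IsLocalRing.isUnit_or_isUnit_one_sub_self _

variable {X Y : Scheme.{u}}

/-- An equivalence of the base change of the stalk of the structure module with the stalk upstairs. -/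
def unitBC (k : X ⟶ Y) (x : X) :
    (ModuleCat.extendScalars (k.stalkMap x).hom).obj ((OX.stalk (k x)).obj (Coh.structureModule Y)) ≅
      (OX.stalk x).obj (Coh.structureModule X) :=
  ((OX.pullStalkIso k x).app (Coh.structureModule Y)).symm ≪≫ (OX.stalk x).mapIso (ParaLocal.pullUnit k)

/-- The pulled back inclusion of an ideal module. -/
def pullι (k : X ⟶ Y) (I : Y.IdealSheafData) :
    (Scheme.Modules.pullback k).obj (ClSub.idealMod I) ⟶ Coh.structureModule X :=
  (Scheme.Modules.pullback k).map (ClSub.idealModι I) ≫ (ParaLocal.pullUnit k).hom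

/-- The stalk of the pulled back ideal module, transported to the base change of the stalk. -/
def toStalk (k : X ⟶ Y) (M : Y.Modules) (x : X) :
    (ModuleCat.extendScalars (k.stalkMap x).hom).obj ((OX.stalk (k x)).obj M) ⟶
      (OX.stalk x).obj ((Scheme.Modules.pullback k).obj M) :=
  ((OX.pullStalkIso k x).app M).inv

/-- The values of the pulled back inclusion of an ideal module. -/
theorem exists_unit_pullι (k : X ⟶ Y) (I : Y.IdealSheafData) (x : X) :
    letI := (k.stalkMap x).hom.toAlgebra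
    ∃ v : X.presheaf.stalk x, IsUnit v ∧ ∀ n : (OX.stalk (k x)).obj (ClSub.idealMod I),
      (ouni x).symm ((toStalk k (ClSub.idealMod I) x ≫ (OX.stalk x).map (pullι k I)).hom
        ((1 : X.presheaf.stalk x) ⊗ₜ[Y.presheaf.stalk (k x)] n)) = v * (k.stalkMap x) (sval I (k x) n) := by
  letI := (k.stalkMap x).hom.toAlgebra
  let E := (unitBC k x).toLinearEquiv.trans (ouni x).symm
  let v : X.presheaf.stalk x := E ((1 : X.presheaf.stalk x) ⊗ₜ[Y.presheaf.stalk (k x)] one₀ (k x))
  have hgen : ∀ t, ∃ b : X.presheaf.stalk x, E t = b * v := by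
    intro t
    induction t using TensorProduct.induction_on with
    | zero => exact ⟨0, by rw [zero_mul]; exact map_zero E⟩
    | add s t hs ht =>
      obtain ⟨b, hb⟩ := hs
      obtain ⟨c, hc⟩ := ht
      exact ⟨b + c, by rw [add_mul, ← hb, ← hc]; exact map_add E _ _⟩
    | tmul b w =>
      obtain ⟨c, rfl⟩ := (smul_one₀_bijective (k x)).2 w
      change X.presheaf.stalk x at b
      refine ⟨b * (k.stalkMap x) c, ?_⟩
      refine Eq.trans ?_ (map_smul E (b * (k.stalkMap x) c) _)
      refine congrArg E ?_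
      show b ⊗ₜ[Y.presheaf.stalk (k x)] (c • one₀ (k x)) = ((b * (k.stalkMap x) c) • (1 : X.presheaf.stalk x)) ⊗ₜ[Y.presheaf.stalk (k x)] one₀ (k x)
      rw [TensorProduct.tmul_smul, TensorProduct.smul_tmul', Algebra.smul_def, smul_eq_mul, mul_one, mul_comm]
      rfl
  refine ⟨v, ?_, fun n => ?_⟩
  · obtain ⟨t, ht⟩ := E.surjective 1
    obtain ⟨b, hb⟩ := hgen t
    exact IsUnit.of_mul_eq_one _ ((mul_comm v b).trans (hb.symm.trans ht))
  · have hnat : toStalk k (ClSub.idealMod I) x ≫ (OX.stalk x).map (pullι k I) =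
        (ModuleCat.extendScalars (k.stalkMap x).hom).map ((OX.stalk (k x)).map (ClSub.idealModι I)) ≫
          (unitBC k x).hom := by
      show _ ≫ (OX.stalk x).map (_ ≫ _) = _
      rw [Functor.map_comp]
      exact ((Category.assoc _ _ _).symm.trans (congrArg (· ≫ _)
        ((OX.pullStalkIso k x).inv.naturality (ClSub.idealModι I)).symm)).trans (Category.assoc _ _ _)
    rw [hnat]
    show E ((1 : X.presheaf.stalk x) ⊗ₜ[Y.presheaf.stalk (k x)] ((OX.stalk (k x)).map (ClSub.idealModι I)).hom n) = _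
    have hn : ((OX.stalk (k x)).map (ClSub.idealModι I)).hom n = sval I (k x) n • one₀ (k x) :=
      ((ouni (k x)).apply_symm_apply _).symm
    rw [hn]
    refine Eq.trans ?_ ((map_smul E ((k.stalkMap x) (sval I (k x) n)) _).trans (mul_comm _ _))
    refine congrArg E ?_
    show (1 : X.presheaf.stalk x) ⊗ₜ[Y.presheaf.stalk (k x)] (sval I (k x) n • one₀ (k x)) =
      (((k.stalkMap x) (sval I (k x) n)) • (1 : X.presheaf.stalk x)) ⊗ₜ[Y.presheaf.stalk (k x)] one₀ (k x)
    rw [TensorProduct.tmul_smul, TensorProduct.smul_tmul', Algebra.smul_def, smul_eq_mul]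
    rfl

/-- The pulled back inclusion of the kernel of `i` lands in the kernel of `i'`. -/
theorem pullι_comp_toSubscheme {Z Z' : Scheme.{u}} (i : Z ⟶ Y) [QuasiCompact i] (i' : Z' ⟶ X) [QuasiCompact i']
    (g : Z' ⟶ Z) (k : X ⟶ Y) (hk : i' ≫ k = g ≫ i) :
    pullι k i.ker ≫ ClSub.toSubscheme i'.ker = 0 := by
  rw [OX.eq_zero_iff]
  intro x
  letI := (k.stalkMap x).hom.toAlgebra
  obtain ⟨U, hU, hxU, -⟩ := exists_isAffineOpen_mem_and_subset (x := k.base x) (U := ⊤) trivial
  obtain ⟨V, hV, hxV, hVU⟩ := exists_isAffineOpen_mem_and_subset (x := x) (U := k ⁻¹ᵁ U) hxU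
  have hideal : ∀ s ∈ i.ker.ideal ⟨U, hU⟩, k.appLE U V hVU s ∈ i'.ker.ideal ⟨V, hV⟩ := by
    intro s hs
    rw [Scheme.Hom.ker_apply, RingHom.mem_ker] at hs ⊢
    have hle : i' ⁻¹ᵁ V ≤ g ⁻¹ᵁ (i ⁻¹ᵁ U) := fun w hw => by
      have h := hVU hw
      show i.base (g.base w) ∈ U
      rw [← Scheme.Hom.comp_apply, ← hk]
      exact h
    have key : k.appLE U V hVU ≫ i'.app V = i.app U ≫ g.appLE _ _ hle := by
      rw [Scheme.Hom.app_eq_appLE, Scheme.Hom.app_eq_appLE]
      refine (Scheme.Hom.appLE_comp_appLE _ _ _ _ _ hVU le_rfl).trans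
        (Eq.trans ?_ (Scheme.Hom.appLE_comp_appLE _ _ _ _ _ le_rfl hle).symm)
      simp [hk]
    exact (ConcreteCategory.congr_hom key s).trans ((congrArg (g.appLE _ _ hle) hs).trans (map_zero _))
  obtain ⟨v, -, hv⟩ := exists_unit_pullι k i.ker x
  have hmem : ∀ n, v * (k.stalkMap x) (sval i.ker (k x) n) ∈ LinearMap.range (sval i'.ker x) := by
    intro n
    rw [range_sval i'.ker x ⟨V, hV⟩ hxV]
    refine Ideal.mul_mem_left _ _ ?_
    have h : sval i.ker (k x) n ∈ (i.ker.ideal ⟨U, hU⟩).map (Y.presheaf.germ U (k x) hxU).hom := by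
      rw [← range_sval i.ker (k x) ⟨U, hU⟩ hxU]
      exact ⟨n, rfl⟩
    have h2 := Ideal.mem_map_of_mem (k.stalkMap x).hom h
    rw [Ideal.map_map] at h2
    refine (Ideal.map_le_iff_le_comap.2 ?_) h2
    intro s hs
    rw [Ideal.mem_comap]
    have e : (k.stalkMap x) (Y.presheaf.germ U (k x) hxU s) = X.presheaf.germ V x hxV (k.appLE U V hVU s) := by
      rw [Scheme.Hom.germ_stalkMap_apply]
      exact (TopCat.Presheaf.germ_res_apply X.presheaf (homOfLE hVU) x hxV _).symm
    exact e.symm ▸ Ideal.mem_map_of_mem _ (hideal s hs)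
  haveI : IsIso (toStalk k (ClSub.idealMod i.ker) x) := by unfold toStalk; infer_instance
  rw [← cancel_epi (toStalk k (ClSub.idealMod i.ker) x), comp_zero, Functor.map_comp]
  refine ModuleCat.hom_ext (LinearMap.ext fun t => ?_)
  induction t using TensorProduct.induction_on with
  | zero => exact (map_zero _).trans (map_zero _).symm
  | add s t hs ht => exact (map_add _ _ _).trans ((congrArg₂ (· + ·) hs ht).trans (map_add _ _ _).symm)
  | tmul b n =>
    change X.presheaf.stalk x at b
    obtain ⟨w, hw⟩ := hmem n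
    have h1 : ((toStalk k (ClSub.idealMod i.ker) x ≫ (OX.stalk x).map (pullι k i.ker)).hom
        ((1 : X.presheaf.stalk x) ⊗ₜ[Y.presheaf.stalk (k x)] n)) = ((OX.stalk x).map (ClSub.idealModι i'.ker)).hom w :=
      (ouni x).symm.injective ((hv n).trans hw.symm)
    have h2 : ((OX.stalk x).map (ClSub.toSubscheme i'.ker)).hom (((OX.stalk x).map (ClSub.idealModι i'.ker)).hom w) = 0 := by
      show ((OX.stalk x).map (ClSub.idealModι i'.ker) ≫ (OX.stalk x).map (ClSub.toSubscheme i'.ker)).hom w = 0
      rw [← Functor.map_comp, show ClSub.idealModι i'.ker ≫ ClSub.toSubscheme i'.ker = 0 from kernel.condition _,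
        Functor.map_zero]
      rfl
    let m : (ModuleCat.extendScalars (k.stalkMap x).hom).obj ((OX.stalk (k x)).obj (ClSub.idealMod i.ker)) :=
      (1 : X.presheaf.stalk x) ⊗ₜ[Y.presheaf.stalk (k x)] n
    let m' : (ModuleCat.extendScalars (k.stalkMap x).hom).obj ((OX.stalk (k x)).obj (ClSub.idealMod i.ker)) :=
      b ⊗ₜ[Y.presheaf.stalk (k x)] n
    have hb : m' = b • m := by
      show b ⊗ₜ[Y.presheaf.stalk (k x)] n = (b • (1 : X.presheaf.stalk x)) ⊗ₜ[Y.presheaf.stalk (k x)] n
      rw [smul_eq_mul, mul_one]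
    refine (congrArg _ hb).trans ((map_smul _ b _).trans ?_)
    refine Eq.trans ?_ (smul_zero b)
    exact congrArg (b • ·) ((congrArg _ h1).trans h2)

/-- The comparison of ideal modules. -/
def pullIdeal {Z Z' : Scheme.{u}} (i : Z ⟶ Y) [QuasiCompact i] (i' : Z' ⟶ X) [QuasiCompact i']
    (g : Z' ⟶ Z) (k : X ⟶ Y) (hk : i' ≫ k = g ≫ i) :
    (Scheme.Modules.pullback k).obj (ClSub.idealMod i.ker) ⟶ ClSub.idealMod i'.ker :=
  kernel.lift _ (pullι k i.ker) (pullι_comp_toSubscheme i i' g k hk)

set_option maxHeartbeats 1600000 in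
/-- The conormal sheaf of a section commutes with base change. -/
theorem nonempty_pullback_conormal_section {Z Z' P P' : Scheme.{u}} (i : Z ⟶ P) [QuasiCompact i]
    (i' : Z' ⟶ P') [QuasiCompact i'] (r : P ⟶ Z) (r' : P' ⟶ Z') (g : Z' ⟶ Z) (k : P' ⟶ P)
    (H : IsPullback k r' r g) (hi : i ≫ r = 𝟙 _) (hi' : i' ≫ r' = 𝟙 _) (hk : i' ≫ k = g ≫ i) :
    Nonempty ((Scheme.Modules.pullback g).obj (Omega.conormal i) ≅ Omega.conormal i') := by
  haveI : IsImmersion (i ≫ r) := hi ▸ inferInstance
  haveI : IsImmersion i := IsImmersion.of_comp i r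
  haveI : IsImmersion (i' ≫ r') := hi' ▸ inferInstance
  haveI : IsImmersion i' := IsImmersion.of_comp i' r'
  let α := pullIdeal i i' g k hk
  haveI hI : IsIso ((Scheme.Modules.pullback i').map α) := by
    rw [OX.isIso_iff]
    intro z'
    suffices h : IsIso ((ModuleCat.extendScalars (i'.stalkMap z').hom).map
        (toStalk k (ClSub.idealMod i.ker) (i' z') ≫ (OX.stalk (i' z')).map α)) by
      have h2 : IsIso ((ModuleCat.extendScalars (i'.stalkMap z').hom).map ((OX.stalk (i' z')).map α)) := by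
        haveI : IsIso (toStalk k (ClSub.idealMod i.ker) (i' z')) := by unfold toStalk; infer_instance
        rw [Functor.map_comp] at h
        exact IsIso.of_isIso_comp_left ((ModuleCat.extendScalars (i'.stalkMap z').hom).map
          (toStalk k (ClSub.idealMod i.ker) (i' z'))) _
      exact (NatIso.isIso_map_iff (OX.pullStalkIso i' z') α).2 h2
    let x := i'.base z'
    let p := k.base x
    let z := g.base z'
    let γ : Z.presheaf.stalk z ⟶ Z'.presheaf.stalk z' := g.stalkMap z'
    let φ : P.presheaf.stalk p ⟶ P'.presheaf.stalk x := k.stalkMap x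
    let π : P'.presheaf.stalk x ⟶ Z'.presheaf.stalk z' := i'.stalkMap z'
    have hzp : i.base z = p := ((congr($(hk) z')).symm : _)
    obtain ⟨ζ, hζ, -⟩ := exists_stalk_hom (y := p) (Z.fromSpecStalk z ≫ i) (by
      exact (Scheme.Hom.comp_apply _ _ _).trans ((congrArg _ Scheme.fromSpecStalk_closedPoint).trans hzp))
    have hrp : r.base p = z := by
      rw [← hzp, ← Scheme.Hom.comp_apply, hi]; rfl
    obtain ⟨ρ, hρ, -⟩ := exists_stalk_hom (y := z) (P.fromSpecStalk p ≫ r) (by
      exact (Scheme.Hom.comp_apply _ _ _).trans ((congrArg _ Scheme.fromSpecStalk_closedPoint).trans hrp))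
    have hr'x : r'.base x = z' := by
      show r'.base (i'.base z') = z'
      rw [← Scheme.Hom.comp_apply, hi']; rfl
    obtain ⟨ρ', hρ', -⟩ := exists_stalk_hom (y := z') (P'.fromSpecStalk x ≫ r') (by
      exact (Scheme.Hom.comp_apply _ _ _).trans ((congrArg _ Scheme.fromSpecStalk_closedPoint).trans hr'x))
    have hπ : Spec.map π ≫ P'.fromSpecStalk x = Z'.fromSpecStalk z' ≫ i' := Scheme.SpecMap_stalkMap_fromSpecStalk (f := i')
    have hφ : Spec.map φ ≫ P.fromSpecStalk p = P'.fromSpecStalk x ≫ k := Scheme.SpecMap_stalkMap_fromSpecStalk (f := k)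
    have hγ : Spec.map γ ≫ Z.fromSpecStalk z = Z'.fromSpecStalk z' ≫ g := Scheme.SpecMap_stalkMap_fromSpecStalk (f := g)
    have hρζ : ρ ≫ ζ = 𝟙 _ := stalk_hom_ext (by
      rw [Spec.map_comp, Spec.map_id, Category.id_comp, Category.assoc, hρ, ← Category.assoc, hζ, Category.assoc, hi,
        Category.comp_id])
    have hπφ : φ ≫ π = ζ ≫ γ := stalk_hom_ext (by
      rw [Spec.map_comp, Spec.map_comp, Category.assoc, hφ, ← Category.assoc, hπ, Category.assoc, hk, Category.assoc,
        hζ, ← Category.assoc (Spec.map γ), hγ, Category.assoc])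
    have hπρ' : ρ' ≫ π = 𝟙 _ := stalk_hom_ext (by
      rw [Spec.map_comp, Spec.map_id, Category.id_comp, Category.assoc, hρ', ← Category.assoc, hπ, Category.assoc, hi',
        Category.comp_id])
    have hρφ : ρ ≫ φ = γ ≫ ρ' := stalk_hom_ext (by
      rw [Spec.map_comp, Spec.map_comp, Category.assoc, hρ, ← Category.assoc, hφ, Category.assoc, Category.assoc,
        hγ, ← Category.assoc (Spec.map ρ'), hρ', Category.assoc, H.w])
    have hjr : LinearMap.range (sval i.ker p) = RingHom.ker ζ.hom := range_sval_ker i z p hzp ζ hζ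
    have hj'r' : LinearMap.range (sval i'.ker x) = RingHom.ker π.hom := range_sval_ker i' z' x rfl π hπ
    have hmap : RingHom.ker π.hom = Ideal.map φ.hom (RingHom.ker ζ.hom) := by
      refine le_antisymm (fun b hb => ?_) ?_
      · let J := Ideal.map φ.hom (RingHom.ker ζ.hom)
        let mk : P'.presheaf.stalk x ⟶ CommRingCat.of (P'.presheaf.stalk x ⧸ J) := CommRingCat.ofHom (Ideal.Quotient.mk J)
        have hφmk : φ ≫ π ≫ ρ' ≫ mk = φ ≫ mk := by
          rw [← Category.assoc, hπφ, Category.assoc, ← Category.assoc γ, ← hρφ, Category.assoc]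
          ext c
          show Ideal.Quotient.mk J (φ (ρ (ζ c))) = Ideal.Quotient.mk J (φ c)
          rw [Ideal.Quotient.eq, ← map_sub]
          refine Ideal.mem_map_of_mem _ ?_
          rw [RingHom.mem_ker, map_sub, sub_eq_zero]
          exact ConcreteCategory.congr_hom hρζ (ζ c)
        have h2 : π ≫ ρ' ≫ mk = mk := stalk_hom_ext (H.hom_ext (by
          rw [Category.assoc, Category.assoc, ← hφ, ← Category.assoc, ← Category.assoc (Spec.map mk), ← Spec.map_comp,
            ← Spec.map_comp, hφmk]) (by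
          rw [Category.assoc, Category.assoc, ← hρ', ← Category.assoc, ← Category.assoc (Spec.map mk), ← Spec.map_comp,
            ← Spec.map_comp, ← Category.assoc ρ', hπρ', Category.id_comp]))
        have h3 := ConcreteCategory.congr_hom h2 b
        rw [← Ideal.Quotient.eq_zero_iff_mem]
        refine h3.symm.trans ?_
        show Ideal.Quotient.mk J (ρ' (π b)) = 0
        rw [show π b = 0 from hb, map_zero, map_zero]
      · rw [Ideal.map_le_iff_le_comap]
        intro c hc
        show (φ ≫ π) c = 0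
        rw [hπφ]
        exact (congrArg γ (show ζ c = 0 from hc)).trans (map_zero _)
    obtain ⟨v, hv, hvv⟩ := exists_unit_pullι k i.ker x
    letI := φ.hom.toAlgebra
    letI := π.hom.toAlgebra
    let T := (toStalk k (ClSub.idealMod i.ker) x ≫ (OX.stalk x).map α).hom
    have hT : ∀ n, sval i'.ker x (T ((1 : P'.presheaf.stalk x) ⊗ₜ[P.presheaf.stalk p] n)) = v * φ (sval i.ker p n) := by
      intro n
      refine Eq.trans ?_ (hvv n)
      show (ouni x).symm (((toStalk k (ClSub.idealMod i.ker) x ≫ (OX.stalk x).map α) ≫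
        (OX.stalk x).map (ClSub.idealModι i'.ker)).hom _) = _
      rw [Category.assoc, ← Functor.map_comp, show α ≫ ClSub.idealModι i'.ker = pullι k i.ker from kernel.lift_ι _ _ _]
    have hb : Function.Bijective (LinearMap.baseChange (Z'.presheaf.stalk z') T) := by
      refine bijective_baseChange ρ.hom ζ.hom γ.hom φ.hom π.hom (fun c => ConcreteCategory.congr_hom hρζ c)
        (fun b => ConcreteCategory.congr_hom hπφ b) (sval i.ker p) (sval_injective _ _) hjr (sval i'.ker x)
        (sval_injective _ _) (by rw [hjr]; exact hj'r'.trans hmap) v hv ?_ T hT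
      intro Q _ _ _ _ f hf1 hf2
      haveI := isLocalRing_trivSqZeroExt (Z'.presheaf.stalk z') Q
      let E := CommRingCat.of (TrivSqZeroExt (Z'.presheaf.stalk z') Q)
      haveI : IsLocalRing E := isLocalRing_trivSqZeroExt (Z'.presheaf.stalk z') Q
      let e : E ⟶ Z'.presheaf.stalk z' :=
        CommRingCat.ofHom (TrivSqZeroExt.fstHom (Z'.presheaf.stalk z') (Z'.presheaf.stalk z') Q).toRingHom
      let inl : Z'.presheaf.stalk z' ⟶ E := CommRingCat.ofHom (TrivSqZeroExt.inlHom (Z'.presheaf.stalk z') Q)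
      let fc : P.presheaf.stalk p ⟶ E := CommRingCat.ofHom f
      have hcomm : (Spec.map fc ≫ P.fromSpecStalk p) ≫ r = (Spec.map inl ≫ Z'.fromSpecStalk z') ≫ g := by
        rw [Category.assoc, ← hρ, ← Category.assoc, ← Spec.map_comp, Category.assoc, ← hγ, ← Category.assoc,
          ← Spec.map_comp, show ρ ≫ fc = γ ≫ inl from CommRingCat.hom_ext (RingHom.ext hf2)]
      let w := H.lift (Spec.map fc ≫ P.fromSpecStalk p) (Spec.map inl ≫ Z'.fromSpecStalk z') hcomm
      have hinle : inl ≫ e = 𝟙 _ := CommRingCat.hom_ext (RingHom.ext fun c => TrivSqZeroExt.fst_inl Q c)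
      have hfe : fc ≫ e = ζ ≫ γ := CommRingCat.hom_ext (RingHom.ext hf1)
      have hew : Spec.map e ≫ w = Z'.fromSpecStalk z' ≫ i' := H.hom_ext (by
        rw [Category.assoc, H.lift_fst, ← Category.assoc, ← Spec.map_comp, hfe, Category.assoc, hk, Spec.map_comp,
          Category.assoc, hζ, ← Category.assoc, hγ, Category.assoc]) (by
        rw [Category.assoc, H.lift_snd, ← Category.assoc, ← Spec.map_comp, hinle, Spec.map_id, Category.id_comp,
          Category.assoc, hi', Category.comp_id])
      have hwx : w.base (closedPoint E) = x := by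
        have hloc : IsLocalHom e.hom := ⟨fun c hc => TrivSqZeroExt.isUnit_iff_isUnit_fst.2 hc⟩
        have hcp : (Spec.map e).base (closedPoint (Z'.presheaf.stalk z')) = closedPoint E :=
          IsLocalRing.comap_closedPoint e.hom
        exact (congrArg w.base hcp).symm.trans ((congr($(hew) (closedPoint (Z'.presheaf.stalk z')))).trans
          (congrArg i'.base Scheme.fromSpecStalk_closedPoint))
      obtain ⟨F, hF, -⟩ := exists_stalk_hom (y := x) w hwx
      have hF1 : φ ≫ F = fc := stalk_hom_ext (by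
        rw [Spec.map_comp, Category.assoc, hφ, ← Category.assoc, hF, H.lift_fst])
      have hF2 : F ≫ e = π := stalk_hom_ext (by
        rw [Spec.map_comp, Category.assoc, hF, hew, hπ])
      exact ⟨F.hom, fun b => ConcreteCategory.congr_hom hF1 b, fun b => ConcreteCategory.congr_hom hF2 b⟩
    rw [ConcreteCategory.isIso_iff_bijective]
    exact hb
  exact ⟨(Scheme.Modules.pullbackComp g i).app (ClSub.idealMod i.ker) ≪≫
    (Scheme.Modules.pullbackCongr hk.symm).app (ClSub.idealMod i.ker) ≪≫
    ((Scheme.Modules.pullbackComp i' k).app (ClSub.idealMod i.ker)).symm ≪≫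
    @asIso _ _ _ _ ((Scheme.Modules.pullback i').map α) hI⟩

end GrothLib.OmegaBC
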