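import Groth.Agent.Lib.OmegaBC.IdealStalk
import Groth.Agent.Lib.RegSeqLoc.Scheme
import Mathlib.AlgebraicGeometry.Morphisms.Immersion
import Mathlib.AlgebraicGeometry.IdealSheaf.Subscheme

/-!
Maps from spectra of local rings, and the ideal of an immersion at a point.
-/

set_option autoImplicit false
set_option linter.all false
universe u

open CategoryTheory CategoryTheory.Limits AlgebraicGeometry Opposite TopologicalSpace IsLocalRing

namespace GrothLib.OmegaBC

variable {X Y : Scheme.{u}}

/-- Ring maps from local rings are determined by the morphisms of spectra they induce. -/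
theorem stalk_hom_ext {y : Y} {E : CommRingCat.{u}} {f g : Y.presheaf.stalk y ⟶ E}
    (h : Spec.map f ≫ Y.fromSpecStalk y = Spec.map g ≫ Y.fromSpecStalk y) : f = g :=
  Spec.map_injective ((cancel_mono (Y.fromSpecStalk y)).1 h)

/-- A morphism from the spectrum of a local ring sending the closed point to `y` is given by the local ring at `y`. -/
theorem exists_stalk_hom {y : Y} {E : CommRingCat.{u}} [IsLocalRing E] (v : Spec E ⟶ Y)
    (hy : v.base (closedPoint E) = y) :
    ∃ f : Y.presheaf.stalk y ⟶ E, Spec.map f ≫ Y.fromSpecStalk y = v ∧ IsLocalHom f.hom := by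
  subst hy
  exact ⟨Scheme.stalkClosedPointTo v, Scheme.Spec_stalkClosedPointTo_fromSpecStalk v, inferInstance⟩

/-- The stalk maps of the morphism to the scheme-theoretic image are injective. -/
theorem toImage_stalkMap_injective (f : X ⟶ Y) [QuasiCompact f] [IsImmersion f] (x : X) :
    Function.Injective (f.toImage.stalkMap x) := by
  have h1 := f.stalkFunctor_toImage_injective (f.toImage x)
  have h2 : IsIso (X.presheaf.stalkPushforward CommRingCat f.toImage.base x) :=
    TopCat.Presheaf.stalkPushforward.stalkPushforward_iso_of_isInducing CommRingCat (f := f.toImage.base) f.toImage.isEmbedding.isInducing X.presheaf x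
  exact fun a b hab => h1 ((ConcreteCategory.bijective_of_isIso (X.presheaf.stalkPushforward CommRingCat f.toImage.base x)).1 hab)

/-- The stalk of the kernel ideal module at a point of an immersion. -/
theorem range_sval_ker (f : X ⟶ Y) [QuasiCompact f] [IsImmersion f] (x : X) (y : Y) (hy : f.base x = y)
    (ζ : Y.presheaf.stalk y ⟶ X.presheaf.stalk x)
    (hζ : Spec.map ζ ≫ Y.fromSpecStalk y = X.fromSpecStalk x ≫ f) :
    LinearMap.range (sval f.ker y) = RingHom.ker ζ.hom := by
  subst hy
  have hz : ζ = f.stalkMap x := stalk_hom_ext (hζ.trans (Scheme.SpecMap_stalkMap_fromSpecStalk (f := f)).symm)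
  subst hz
  obtain ⟨U, hU, hxU, -⟩ := exists_isAffineOpen_mem_and_subset (x := f.base x) (U := ⊤) trivial
  rw [range_sval f.ker (f.base x) ⟨U, hU⟩ hxU]
  have key : ∀ {Z : Scheme.{u}} (t : X ⟶ Z) (j : Z ⟶ Y) [IsClosedImmersion j] (h : t ≫ j = f)
      (_ : j.ker = f.ker) (_ : Function.Injective (t.stalkMap x)),
      (f.ker.ideal ⟨U, hU⟩).map (Y.presheaf.germ U (f.base x) hxU).hom = RingHom.ker (f.stalkMap x).hom := by
    intro Z t j _ h hk ht
    subst h
    rw [← hk]
    refine (RegSeqLoc.ker_stalkMap j (t.base x) ⟨U, hU⟩ hxU).symm.trans ?_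
    rw [Scheme.Hom.stalkMap_comp]
    ext r
    show (j.stalkMap (t.base x)) r = 0 ↔ (t.stalkMap x) ((j.stalkMap (t.base x)) r) = 0
    exact ⟨fun hr => (congrArg (t.stalkMap x) hr).trans (map_zero _), fun hr => ht (hr.trans (map_zero _).symm)⟩
  exact key f.toImage f.imageι f.toImage_imageι f.ker.ker_subschemeι (toImage_stalkMap_injective f x)

end GrothLib.OmegaBC
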